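import Cfsg.Agent.Lib.M22Nse.Simple

/-!
The recognition by order and same-order counts from the uniqueness of the simple group of order 443520.
-/

set_option linter.unusedSectionVars false

namespace Cfsg.Agent.M22Nse

open Cfsg Cfsg.Agent.M23Uniq

universe u

/-- A group of the order and the counts of the group of degree 22 is isomorphic to it, granted uniqueness. -/
theorem iso_of_counts (huniq : ∀ (H : Type u) [Group H] [Finite H], Cfsg.IsM22 H → Cfsg.Spor.IsoM22 H)
    {G : Type u} [Group G] [Finite G] (hcard : Nat.card G = Nat.card ↥Cfsg.Spor.M22)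
    (hnse : {c : ℕ | 0 < c ∧ ∃ n : ℕ, c = Nat.card {g : G // orderOf g = n}} =
      {c : ℕ | 0 < c ∧ ∃ n : ℕ, c = Nat.card {g : ↥Cfsg.Spor.M22 // orderOf g = n}}) :
    Nonempty (G ≃* ↥Cfsg.Spor.M22) := by
  have hG : Nat.card G = 443520 := hcard.trans Golay.card_sporM22
  refine huniq G ⟨simple_of_counts hG fun n hn => ?_, hG⟩
  have h : Nat.card {g : G // orderOf g = n} ∈
      {c : ℕ | 0 < c ∧ ∃ n : ℕ, c = Nat.card {g : ↥Cfsg.Spor.M22 // orderOf g = n}} := hnse ▸ ⟨hn, n, rfl⟩
  exact h.2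

end Cfsg.Agent.M22Nse
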